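import Cfsg.Agent.Lib.FrobSystem.Embedded
import Cfsg.Agent.Lib.SzUnique.Main
import Cfsg.Agent.Lib.Perm.Groups.ZassenhausRegular
import Cfsg.Agent.Lib.Lie.ShortPres.SL2
import Cfsg.Agent.S0338
import Cfsg.Agent.S0727

/-!
# Groups with a system of Frobenius kernels
-/

set_option autoImplicit false
set_option linter.unusedSectionVars false
set_option linter.style.haveILetI false

namespace CfsgLib.FrobSystem

open Subgroup MulAction CfsgLib.Char CfsgLib.Char.ZassenhausOdd CfsgLib.Char.FeitZ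

variable {G : Type*} [Group G] [Finite G]

namespace EvenPart

variable {M F : Subgroup G} {T : Sylow 2 G} (d : EvenPart M F T)
include d

theorem pairStab_eq (y : G ⧸ M) : pairStab G (base M) y = M ⊓ stabilizer G y :=
  congrArg (· ⊓ stabilizer G y) d.stab_base

theorem smul_base {f : G} (hf : f ∈ M) : f • base M = base M := CfsgLib.Invol.fixed_one_iff.2 hf

theorem smul_ne_base {f : G} (hf : f ∈ M) {y : G ⧸ M} (hy : y ≠ base M) : f • y ≠ base M := fun e =>
  hy (smul_left_cancel f (e.trans (d.smul_base hf).symm))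

theorem exists_unique_move {y w : G ⧸ M} (hy : y ≠ base M) (hw : w ≠ base M) :
    ∃! u : F, (u : G) • y = w := by
  obtain ⟨f, hf, e⟩ := d.exists_move hw hy
  refine ⟨⟨f, hf⟩, e, fun u hu => Subtype.ext ?_⟩
  have hu' : (u : G) • y = w := hu
  refine (inv_mul_eq_one.1 (d.kernel_inf hy (mul_mem (inv_mem hf) u.2) ?_)).symm
  rw [mul_smul, hu', inv_smul_eq_iff, e]

theorem odd_stab {y : G ⧸ M} (hy : y ≠ base M) : Odd (Nat.card (M ⊓ stabilizer G y : Subgroup G)) := by
  rw [← Nat.not_even_iff_odd]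
  intro he
  obtain ⟨c, hc, ho⟩ := CfsgLib.Invol.exists_invol_mem he
  exact CfsgLib.Invol.invol_ne_one ho (d.kernel_inf hy (d.invol_mem hc.1 ho) hc.2)

theorem exists_ne_base : ∃ y : G ⧸ M, y ≠ base M := by
  obtain ⟨g, hg⟩ := d.part.exists_notMem
  exact ⟨(g : G ⧸ M), fun h => hg (by rwa [QuotientGroup.eq, mul_one, inv_mem_iff] at h)⟩

theorem card_points [Fintype (G ⧸ M)] : Nat.card F + 1 = Fintype.card (G ⧸ M) := by
  classical
  obtain ⟨y, hy⟩ := d.exists_ne_base
  have hb : Function.Bijective (fun f : F => (⟨(f : G) • y, d.smul_ne_base (d.part.le f.2) hy⟩ :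
      {w : G ⧸ M // w ≠ base M})) := by
    refine ⟨fun f f' e => (d.exists_unique_move hy (d.smul_ne_base (d.part.le f'.2) hy)).unique
      (congrArg Subtype.val e) rfl, fun w => ?_⟩
    obtain ⟨f, hf, -⟩ := d.exists_unique_move hy w.2
    exact ⟨f, Subtype.ext hf⟩
  rw [Nat.card_eq_of_bijective _ hb, Nat.card_eq_fintype_card, Fintype.card_subtype_compl,
    Fintype.card_subtype_eq]
  have : 0 < Fintype.card (G ⧸ M) := Fintype.card_pos_iff.2 ⟨base M⟩
  omega

theorem odd_points [Fintype (G ⧸ M)] : Odd (Fintype.card (G ⧸ M)) := by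
  rw [← d.card_points]
  exact (even_iff_two_dvd.2 d.two_dvd).add_one

theorem fix_three_base {y w : G ⧸ M} (hy : y ≠ base M) (hw : w ≠ base M) (hyw : y ≠ w) {c : G} (hc : c ∈ M)
    (hcy : c • y = y) (hcw : c • w = w) : c = 1 := by
  obtain ⟨f, hf, e⟩ := d.exists_move hw hy
  have h1 : f⁻¹ * c * f ∈ M ⊓ stabilizer G y := Subgroup.mem_inf.2 ⟨mul_mem (mul_mem (inv_mem (d.part.le hf)) hc) (d.part.le hf), by
    show (f⁻¹ * c * f) • y = y
    rw [mul_smul, mul_smul, e, hcw, inv_smul_eq_iff, e]⟩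
  have h2 : f⁻¹ * c * f * c⁻¹ ∈ F := by
    rw [show f⁻¹ * c * f * c⁻¹ = f⁻¹ * (c * f * c⁻¹) by group]
    exact mul_mem (inv_mem hf) (d.part.conj_mem hc hf)
  have h5 : c ∈ M ⊓ stabilizer G y := ⟨hc, hcy⟩
  have h6 : f⁻¹ * c * f * c⁻¹ ∈ M ⊓ stabilizer G y := mul_mem h1 (inv_mem h5)
  have h3 := d.kernel_inf hy h2 h6.2
  have h4 : c * f = f * c := by
    rw [mul_inv_eq_one, mul_assoc, inv_mul_eq_iff_eq_mul] at h3
    exact h3
  have hf1 : f ≠ 1 := fun h => hyw (by rw [← e, h, one_smul])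
  exact d.kernel_inf hy (d.part.mem_of_comm hf hf1 h4) hcy

theorem fix_three (g : G) (a b c : G ⧸ M) (hab : a ≠ b) (hbc : b ≠ c) (hac : a ≠ c)
    (ha : g • a = a) (hb : g • b = b) (hc : g • c = c) : g = 1 := by
  obtain ⟨x, rfl⟩ := QuotientGroup.mk_surjective a
  rw [mk_eq_smul] at hab hac ha
  have key : ∀ w : G ⧸ M, g • w = w → (x⁻¹ * g * x) • x⁻¹ • w = x⁻¹ • w := fun w hw => by
    rw [mul_smul, mul_smul, smul_inv_smul, hw]
  have hne : ∀ w : G ⧸ M, x • base M ≠ w → x⁻¹ • w ≠ base M := fun w hw e => hw (by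
    rw [← e, smul_inv_smul])
  have h := d.fix_three_base (hne b hab) (hne c hac) (fun e => hbc (smul_left_cancel x⁻¹ e))
    (c := x⁻¹ * g * x) (CfsgLib.Invol.fixed_one_iff.1 (by
      rw [mul_smul, mul_smul]
      show x⁻¹ • g • x • base M = base M
      rw [ha, inv_smul_smul]))
    (key b hb) (key c hc)
  calc g = x * (x⁻¹ * g * x) * x⁻¹ := by group
    _ = 1 := by rw [h]; group

theorem two_transitive : IsMultiplyPretransitive G (G ⧸ M) 2 := by
  rw [is_two_pretransitive_iff]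
  intro p q p' q' hpq hpq'
  obtain ⟨g, hg⟩ := exists_smul_eq G p (base M)
  obtain ⟨g', hg'⟩ := exists_smul_eq G p' (base M)
  obtain ⟨f, hf, e⟩ := d.exists_move (y := g' • q') (w := g • q)
    (fun e' => hpq' (smul_left_cancel g' (hg'.trans e'.symm)))
    (fun e' => hpq (smul_left_cancel g (hg.trans e'.symm)))
  refine ⟨g'⁻¹ * f * g, ?_, ?_⟩
  · rw [mul_smul, mul_smul, hg, d.smul_base (d.part.le hf), inv_smul_eq_iff, hg']
  · rw [mul_smul, mul_smul, e, inv_smul_smul]

theorem zassenhaus : Cfsg.IsZassenhausGroup G (G ⧸ M) := by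
  classical
  haveI := Fintype.ofFinite (G ⧸ M)
  have h3 := d.fix_three
  have hcard := d.card_points
  have h3c : 3 ≤ Fintype.card (G ⧸ M) := by
    have := Nat.le_of_dvd Nat.card_pos d.two_dvd
    omega
  obtain ⟨p, q, r, hpq, hpr, hqr⟩ := Fintype.two_lt_card_iff.1 (show 2 < Fintype.card (G ⧸ M) by omega)
  refine ⟨⟨fun {g g'} h => ?_⟩, d.two_transitive, h3, ?_, ?_⟩
  · rw [← inv_mul_eq_one]
    exact (h3 (g⁻¹ * g') p q r hpq hqr hpr (by rw [mul_smul, ← h, inv_smul_smul])
      (by rw [mul_smul, ← h, inv_smul_smul]) (by rw [mul_smul, ← h, inv_smul_smul]))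
  · obtain ⟨y, hy⟩ := d.exists_ne_base
    obtain ⟨c, hc, hc1⟩ := d.exists_stab_ne_one hy
    exact ⟨c, hc1, base M, y, hy.symm, d.smul_base hc.1, hc.2⟩
  · intro N hN hNt
    by_contra h
    push Not at h
    haveI := hN
    have hNc : Nat.card N = Fintype.card (G ⧸ M) := by
      rw [← Nat.card_eq_fintype_card]
      refine Nat.card_eq_of_bijective (fun x : N => x • base M) ⟨fun x x' e => ?_, fun w => hNt.exists_smul_eq (base M) w⟩
      have h1 : x'⁻¹ * x ∈ stabilizer N (base M) := by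
        rw [mem_stabilizer_iff, mul_smul, inv_smul_eq_iff]; exact e
      exact (inv_mul_eq_one.1 ((Subgroup.eq_bot_iff_forall _).1 (h (base M)) _ h1)).symm
    have := d.part.eq_bot_of_solvable N (isSolvable_subgroup_of_odd (hNc ▸ d.odd_points))
    rw [this, Subgroup.card_bot] at hNc
    omega

theorem exists_pgl [Fintype (G ⧸ M)] (hZ : Cfsg.IsZassenhausGroup G (G ⧸ M)) {f : ℕ}
    (hf : Fintype.card (G ⧸ M) = 2 ^ f + 1) (hI : invCard M = Nat.card F - 1) {b : G ⧸ M} (hb : b ≠ base M) :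
    ∃ (K : Type) (_ : Field K) (_ : Fintype K),
      Fintype.card K = 2 ^ f ∧ Nonempty (G ≃* Matrix.ProjGenLinGroup (Fin 2) K) := by
  classical
  haveI := hZ.1
  have hpair : ∀ p q r : G ⧸ M, p ≠ q → r ≠ p → r ≠ q → ∀ s, s ≠ p → s ≠ q →
      ∃ g : G, g • p = p ∧ g • q = q ∧ g • r = s := by
    intro p q r hpq hrp hrq s hsp hsq
    have hmem : ∀ g : pairStab G p q, (g : G) • r ≠ p ∧ (g : G) • r ≠ q := fun g =>
      ⟨fun e => hrp (smul_left_cancel _ (e.trans (Subgroup.mem_inf.1 g.2).1.symm)),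
        fun e => hrq (smul_left_cancel _ (e.trans (Subgroup.mem_inf.1 g.2).2.symm))⟩
    have hinj : Function.Injective (fun g : pairStab G p q =>
        (⟨(g : G) • r, hmem g⟩ : {z : G ⧸ M // z ≠ p ∧ z ≠ q})) := by
      intro g g' e
      have e' : (g : G) • r = (g' : G) • r := congrArg Subtype.val e
      have hm := mul_mem (inv_mem g'.2) g.2
      exact Subtype.ext (inv_mul_eq_one.1 (d.fix_three ((g' : G)⁻¹ * g) p q r hpq (Ne.symm hrq) (Ne.symm hrp)
        hm.1 hm.2 (by rw [mul_smul, e', inv_smul_smul]))).symm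
    have hcard : Nat.card {z : G ⧸ M // z ≠ p ∧ z ≠ q} ≤ Nat.card (pairStab G p q) := by
      rw [card_pairStab_eq hZ hb.symm hpq, d.pairStab_eq, d.card_stab hb, hI, Nat.card_eq_fintype_card,
        Fintype.card_subtype, show Finset.univ.filter (fun z : G ⧸ M => z ≠ p ∧ z ≠ q) = Finset.univ \ {p, q} by
          ext z; simp,
        Finset.card_sdiff_of_subset (Finset.subset_univ _), Finset.card_pair hpq, Finset.card_univ, ← d.card_points]
      omega
    obtain ⟨g, hg⟩ := (hinj.bijective_of_nat_card_le hcard).2 ⟨s, hsp, hsq⟩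
    exact ⟨g, g.2.1, g.2.2, congrArg Subtype.val hg⟩
  set R := (toPermHom G (G ⧸ M)).range
  let φ : G ≃* R := MonoidHom.ofInjective toPerm_injective
  have hφ : ∀ (g : G) (ω : G ⧸ M), φ g • ω = g • ω := fun _ _ => rfl
  have h3R : IsMultiplyPretransitive R (G ⧸ M) 3 := by
    refine ⟨fun x y => ?_⟩
    have hx : ∀ i j : Fin 3, i ≠ j → x i ≠ x j := fun i j hij e => hij (x.injective e)
    have hy : ∀ i j : Fin 3, i ≠ j → y i ≠ y j := fun i j hij e => hij (y.injective e)
    obtain ⟨g1, h0, h1⟩ := is_two_pretransitive_iff.1 d.two_transitive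
      (hx 0 1 (by decide)) (hy 0 1 (by decide))
    obtain ⟨g2, k0, k1, k2⟩ := hpair (y 0) (y 1) (g1 • x 2) (hy 0 1 (by decide))
      (fun e => hx 2 0 (by decide) (smul_left_cancel g1 (e.trans h0.symm)))
      (fun e => hx 2 1 (by decide) (smul_left_cancel g1 (e.trans h1.symm)))
      (y 2) (hy 2 0 (by decide)) (hy 2 1 (by decide))
    refine ⟨φ (g2 * g1), ?_⟩
    ext i
    show φ (g2 * g1) • x i = y i
    rw [hφ, mul_smul]
    fin_cases i
    · show g2 • g1 • x 0 = y 0
      rw [h0, k0]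
    · show g2 • g1 • x 1 = y 1
      rw [h1, k1]
    · exact k2
  have hsR : ∀ x : Fin 3 ↪ G ⧸ M, stabilizer R x = ⊥ := fun x => (Subgroup.eq_bot_iff_forall _).2 fun r hr => by
    obtain ⟨g, rfl⟩ := φ.surjective r
    have hg : ∀ i, g • x i = x i := fun i => (hφ g (x i)).symm.trans
      (congrArg (fun v : Fin 3 ↪ G ⧸ M => v i) (mem_stabilizer_iff.1 hr))
    rw [d.fix_three g (x 0) (x 1) (x 2) (fun e => absurd (x.injective e) (by decide))
      (fun e => absurd (x.injective e) (by decide)) (fun e => absurd (x.injective e) (by decide))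
      (hg 0) (hg 1) (hg 2), map_one]
  have hf1 : 1 ≤ f := by
    rcases Nat.eq_zero_or_pos f with rfl | h
    · have h1 := d.card_points
      have h2 := Nat.le_of_dvd Nat.card_pos d.two_dvd
      rw [pow_zero] at hf
      omega
    · exact h
  obtain ⟨K, i1, i2, hK, ⟨e⟩⟩ := Cfsg.Agent.S0727.result hf1 hf R h3R hsR
  exact ⟨K, i1, i2, hK, ⟨φ.trans e⟩⟩

/-- The alternatives. -/
theorem sl_or_isoSuzuki :
    (∃ (K : Type) (_ : Field K) (_ : Fintype K), (∃ n : ℕ, 2 ≤ n ∧ Fintype.card K = 2 ^ n) ∧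
        Nonempty (G ≃* Matrix.SpecialLinearGroup (Fin 2) K)) ∨ Cfsg.Lie.IsoSuzuki G := by
  classical
  haveI := Fintype.ofFinite (G ⧸ M)
  have hZ := d.zassenhaus
  haveI : IsSimpleGroup G := Cfsg.Agent.S0338.result hZ d.odd_points
  obtain ⟨b, hb⟩ := d.exists_ne_base
  have hodd : Odd (Nat.card (pairStab G (base M) b)) := by rw [d.pairStab_eq]; exact d.odd_stab hb
  have hle : F ≤ stabilizer G (base M) := d.part.le.trans d.stab_base.ge
  have hreg : ∀ y z : G ⧸ M, y ≠ base M → z ≠ base M → ∃! u : F, (u : G) • y = z :=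
    fun y z hy hz => d.exists_unique_move hy hz
  have hn : (F.subgroupOf (stabilizer G (base M))).Normal :=
    (normal_subgroupOf_iff_le_normalizer hle).2 (d.stab_base.le.trans d.part.norm)
  have P : Pt G (base M) b F := ⟨hZ, hb.symm, hle, d.card_points,
    fun u hu hu1 c hc => by_contra fun hca => hu1 (d.kernel_inf hca hu hc), hodd⟩
  rcases bound P with h | ⟨h2, hna, -⟩
  swap
  · exact Or.inr (CfsgLib.SzUnique.isoSuzuki_of_pt P h2 hna)
  left
  obtain ⟨hc, p, f, hp, hexp, hf⟩ := CfsgLib.Perm.ZReg.regular_elementary hZ hb.symm (by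
    show Fintype.card (G ⧸ M) - 2 ≤ 2 * Nat.card (pairStab G (base M) b)
    have := d.card_points
    omega) F hle hn hreg
  have hcF : Nat.card F = p ^ f := by have := d.card_points; omega
  obtain rfl : p = 2 := by
    haveI := Fact.mk hp
    exact ((Nat.prime_dvd_prime_iff_eq Nat.prime_two hp).1
      (Nat.prime_two.dvd_of_dvd_pow (hcF ▸ d.two_dvd))).symm
  have hI : invCard M = Nat.card F - 1 := by
    haveI := Fintype.ofFinite F
    rw [show Nat.card F - 1 = Nat.card {u : F // u ≠ 1} by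
      rw [Nat.card_eq_fintype_card, Nat.card_eq_fintype_card, Fintype.card_subtype_compl, Fintype.card_subtype_eq]]
    exact Nat.card_congr
      { toFun := fun t => ⟨⟨t.1, d.invol_mem t.2.2 t.2.1⟩,
          fun e => CfsgLib.Invol.invol_ne_one t.2.1 (congrArg Subtype.val e)⟩
        invFun := fun u => ⟨(u.1 : G), orderOf_eq_prime (hexp _ u.1.2) (fun e => u.2 (Subtype.ext e)),
          d.part.le u.1.2⟩
        left_inv := fun t => rfl
        right_inv := fun u => rfl }
  have hf2 : 2 ≤ f := by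
    by_contra hlt
    have h1 := d.two_le_invCard
    rw [hI, hcF] at h1
    interval_cases f <;> norm_num at h1
  obtain ⟨K, i1, i2, hK, ⟨e⟩⟩ := d.exists_pgl hZ hf hI hb
  obtain ⟨e2⟩ := CfsgLib.Char.SuzZ.nonempty_psl_equiv (by omega) hK
  haveI := Fact.mk Nat.prime_two
  haveI : CharP K 2 := charP_of_card_eq_prime_pow (p := 2) (f := f) hK
  let e3 : Matrix.ProjectiveSpecialLinearGroup (Fin 2) K ≃* Matrix.SpecialLinearGroup (Fin 2) K :=
    (QuotientGroup.quotientMulEquivOfEq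
      (CfsgLib.Lie.ShortPres.center_eq_bot_of_two (CharTwo.two_eq_zero (R := K)))).trans
      QuotientGroup.quotientBot
  exact ⟨K, i1, i2, ⟨f, hf2, hK⟩, ⟨(e.trans e2).trans e3⟩⟩

end EvenPart

end CfsgLib.FrobSystem
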