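import Mathlib
import Cfsg.Agent.Lib.Invol.BrauerSuzuki
import Cfsg.Agent.S0205
import Cfsg.Agent.Lib.Fusion.Transfer

/-!
# Maximal solvable subgroups with a TI Frobenius kernel

`IsPart M F`: `M` is maximal solvable, `F` is a nontrivial normal subgroup of `M`, no element of `M` outside
`F` centralizes a nontrivial element of `F`, and `F` meets its conjugates outside `M` trivially.
-/

set_option autoImplicit false
set_option linter.unusedSectionVars false
set_option linter.style.haveILetI false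

namespace CfsgLib.FrobSystem

open Subgroup

variable {G : Type*} [Group G] [Finite G]

/-- A maximal solvable subgroup with a Frobenius kernel. -/
structure IsPart (M F : Subgroup G) : Prop where
  solv : Group.IsSolvable M
  top : ∀ M' : Subgroup G, M < M' → ¬ Group.IsSolvable M'
  le : F ≤ M
  norm : M ≤ normalizer (F : Set G)
  fpf : ∀ a ∈ M, a ∉ F → ∀ x ∈ F, x * a = a * x → x = 1
  ti : ∀ g : G, g ∉ M → ∀ x ∈ F, g * x * g⁻¹ ∈ F → x = 1
  ne : F ≠ ⊥
  nsolv : ¬ Group.IsSolvable G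

theorem exists_le_maximal (X : Subgroup G) (hX : Group.IsSolvable X) :
    ∃ M, X ≤ M ∧ (Group.IsSolvable M ∧ ∀ M' : Subgroup G, M < M' → ¬ Group.IsSolvable M') := by
  obtain ⟨M, hXM, hM⟩ := Set.Finite.exists_le_maximal
    (Set.toFinite {Y : Subgroup G | Group.IsSolvable Y}) (a := X) hX
  exact ⟨M, hXM, hM.1, fun M' hlt hs => hlt.not_ge (hM.2 hs hlt.le)⟩

theorem isSolvable_sup {R M : Subgroup G} [R.Normal] (hR : Group.IsSolvable R) (hM : Group.IsSolvable M) :
    Group.IsSolvable (R ⊔ M : Subgroup G) := by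
  haveI : Group.IsSolvable (M.map (QuotientGroup.mk' R)) :=
    Group.isSolvable_of_surjective ((QuotientGroup.mk' R).subgroupMap_surjective M)
  let f : R →* (R ⊔ M : Subgroup G) := inclusion le_sup_left
  let g : (R ⊔ M : Subgroup G) →* M.map (QuotientGroup.mk' R) :=
    ((QuotientGroup.mk' R).comp (R ⊔ M).subtype).codRestrict _ fun x => by
      obtain ⟨r, hr, m, hm, e⟩ := Subgroup.mem_sup_of_normal_left.1 x.2
      refine ⟨m, hm, ?_⟩
      show (QuotientGroup.mk m : G ⧸ R) = QuotientGroup.mk (x : G)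
      rw [← e, QuotientGroup.mk_mul, (QuotientGroup.eq_one_iff r).2 hr, one_mul]
  refine Group.isSolvable_of_ker_le_range f g fun x hx => ?_
  rw [MonoidHom.mem_ker, Subtype.ext_iff] at hx
  exact ⟨⟨x, (QuotientGroup.eq_one_iff (x : G)).1 hx⟩, Subtype.ext rfl⟩

theorem isSolvable_subgroup_of_odd {H : Subgroup G} (h : Odd (Nat.card H)) : Group.IsSolvable H :=
  Cfsg.Agent.S0205.result h

/-- A group with a normal subgroup of odd order and two-power index is solvable. -/
theorem isSolvable_of_complement (h : Cfsg.HasNormalPComplement 2 G) : Group.IsSolvable G := by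
  haveI : Fact (Nat.Prime 2) := ⟨Nat.prime_two⟩
  obtain ⟨P, N, hN, hc⟩ := h
  haveI := hN
  have hodd : Odd (Nat.card N) := by
    rw [← hc.index_eq_card, Nat.odd_iff]
    exact Nat.two_dvd_ne_zero.1 P.not_dvd_index
  haveI := isSolvable_subgroup_of_odd hodd
  haveI : Group.IsNilpotent (P : Subgroup G) := P.2.isNilpotent
  haveI : Group.IsSolvable (G ⧸ N) := by
    refine Group.isSolvable_of_surjective (f := (QuotientGroup.mk' N).comp (P : Subgroup G).subtype) fun q => ?_
    obtain ⟨g, rfl⟩ := QuotientGroup.mk'_surjective N q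
    obtain ⟨n, hn, p, hp, e⟩ := Subgroup.mem_sup_of_normal_left.1
      (show g ∈ N ⊔ (P : Subgroup G) by rw [hc.sup_eq_top]; exact mem_top g)
    refine ⟨⟨p, hp⟩, ?_⟩
    show (QuotientGroup.mk p : G ⧸ N) = QuotientGroup.mk g
    rw [← e, QuotientGroup.mk_mul, (QuotientGroup.eq_one_iff n).2 hn, one_mul]
  exact Group.isSolvable_of_ker_le_range N.subtype (QuotientGroup.mk' N) (by simp)

namespace IsPart

variable {M F : Subgroup G} (d : IsPart M F)
include d

theorem ne_top : M ≠ ⊤ := fun h => d.nsolv (by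
  haveI := d.solv
  exact Group.isSolvable_of_surjective (f := M.subtype) fun g => ⟨⟨g, h ▸ mem_top g⟩, rfl⟩)

theorem exists_notMem : ∃ g : G, g ∉ M := by
  by_contra h
  push Not at h
  exact d.ne_top ((eq_top_iff' M).2 h)

theorem conj_mem {g x : G} (hg : g ∈ M) (hx : x ∈ F) : g * x * g⁻¹ ∈ F :=
  (mem_normalizer_iff.1 (d.norm hg) x).1 hx

/-- Centralizers of nontrivial elements of the kernel lie in it. -/
theorem mem_of_comm {x c : G} (hx : x ∈ F) (hx1 : x ≠ 1) (h : c * x = x * c) : c ∈ F := by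
  have hcM : c ∈ M := by
    by_contra hcM
    exact hx1 (d.ti c hcM x hx (by rw [h, mul_inv_cancel_right]; exact hx))
  by_contra hc
  exact hx1 (d.fpf c hcM hc x hx h.symm)

/-- The kernel is a Hall subgroup of `M`. -/
theorem coprime : (Nat.card F).Coprime (F.relIndex M) := by
  refine Nat.coprime_of_dvd fun p hp hpF hpI => ?_
  haveI := Fact.mk hp
  haveI : (F.subgroupOf M).Normal := (normal_subgroupOf_iff_le_normalizer d.le).2 d.norm
  rw [relIndex, index_eq_card] at hpI
  obtain ⟨q, hq⟩ := exists_prime_orderOf_dvd_card' p hpI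
  obtain ⟨y0, rfl⟩ := QuotientGroup.mk'_surjective _ q
  obtain ⟨k, hk⟩ : ∃ k, (orderOf y0).factorization p = k := ⟨_, rfl⟩
  set y : M := y0 ^ (orderOf y0 / p ^ k) with hy
  have hyo : ∃ j, orderOf y = p ^ j := by
    have hdvd : p ^ k ∣ orderOf y0 := hk ▸ Nat.ordProj_dvd _ _
    refine ⟨k, ?_⟩
    rw [hy, orderOf_pow, Nat.gcd_eq_right (Nat.div_dvd_of_dvd hdvd), Nat.div_div_self hdvd]
    exact (orderOf_pos y0).ne'
  have hyF : (y : G) ∉ F := by
    intro h
    have h1 : ((y0 : M ⧸ F.subgroupOf M)) ^ (orderOf y0 / p ^ k) = 1 := by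
      rw [← QuotientGroup.mk_pow, QuotientGroup.eq_one_iff, mem_subgroupOf]; exact h
    have h2 := orderOf_dvd_of_pow_eq_one h1
    rw [show orderOf (y0 : M ⧸ F.subgroupOf M) = p from hq, ← hk] at h2
    exact Nat.not_dvd_ordCompl hp (orderOf_pos y0).ne' h2
  obtain ⟨j, hj⟩ := hyo
  have hP : IsPGroup p (zpowers (y : G)) := IsPGroup.of_card (n := j) (by
    rw [Nat.card_zpowers, Subgroup.orderOf_coe, hj])
  let φ : zpowers (y : G) →* MulAut F :=
    (MonoidHom.mk' (fun g : M => ({
      toFun := fun x => ⟨(g : G) * x * (g : G)⁻¹, d.conj_mem g.2 x.2⟩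
      invFun := fun x => ⟨(g : G)⁻¹ * x * g, by simpa using d.conj_mem (inv_mem g.2) x.2⟩
      left_inv := fun x => Subtype.ext (by simp [mul_assoc])
      right_inv := fun x => Subtype.ext (by simp [mul_assoc])
      map_mul' := fun x x' => Subtype.ext (by simp [mul_assoc]) } : MulAut F))
      fun g g' => MulEquiv.ext fun x => Subtype.ext (by simp [mul_assoc])).comp
      (inclusion (zpowers_le.2 y.2))
  letI : MulAction (zpowers (y : G)) F := MulAction.compHom F φ
  have h := hP.card_modEq_card_fixedPoints F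
  have hfix : MulAction.fixedPoints (zpowers (y : G)) F = {1} := by
    refine Set.eq_singleton_iff_unique_mem.2 ⟨fun g => map_one (φ g), fun x hx => ?_⟩
    have h1 : (y : G) * x * (y : G)⁻¹ = x := congrArg Subtype.val (hx ⟨(y : G), mem_zpowers _⟩)
    exact Subtype.ext (d.fpf y y.2 hyF x x.2 (mul_inv_eq_iff_eq_mul.1 h1).symm)
  rw [hfix, show Nat.card ({1} : Set F) = 1 from Nat.card_unique] at h
  exact hp.not_dvd_one (((Nat.ModEq.dvd_iff h dvd_rfl).1 hpF))

/-- An element of `M` of order prime to the index of the kernel lies in the kernel. -/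
theorem mem_of_coprime {x : G} (hx : x ∈ M) (h : (orderOf x).Coprime (F.relIndex M)) : x ∈ F := by
  haveI : (F.subgroupOf M).Normal := (normal_subgroupOf_iff_le_normalizer d.le).2 d.norm
  have h1 : orderOf ((⟨x, hx⟩ : M) : M ⧸ F.subgroupOf M) ∣ orderOf x := by
    rw [← Subgroup.orderOf_mk x hx]
    exact orderOf_map_dvd (QuotientGroup.mk' (F.subgroupOf M)) _
  have h2 : orderOf ((⟨x, hx⟩ : M) : M ⧸ F.subgroupOf M) ∣ F.relIndex M := by
    rw [relIndex, index_eq_card]; exact orderOf_dvd_natCard _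
  have h3 := Nat.dvd_gcd h1 h2
  rw [Nat.Coprime] at h
  rw [h, Nat.dvd_one, orderOf_eq_one_iff, QuotientGroup.eq_one_iff] at h3
  exact h3

/-- An element of `M` of order dividing the order of the kernel lies in the kernel. -/
theorem mem_of_dvd {x : G} (hx : x ∈ M) (h : orderOf x ∣ Nat.card F) : x ∈ F :=
  d.mem_of_coprime hx (Nat.Coprime.coprime_dvd_left h d.coprime)

theorem mem_of_conj {g x : G} (hx : x ∈ F) (h : g * x * g⁻¹ ∈ M) (hx1 : x ≠ 1) : g ∈ M := by
  by_contra hg
  refine hx1 (d.ti g hg x hx (d.mem_of_dvd h ?_))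
  rw [show orderOf (g * x * g⁻¹) = orderOf x from MulEquiv.orderOf_eq (MulAut.conj g) x,
    ← Subgroup.orderOf_mk x hx]
  exact orderOf_dvd_natCard _

/-- There is no nontrivial normal solvable subgroup. -/
theorem eq_bot_of_solvable (R : Subgroup G) [R.Normal] (hR : Group.IsSolvable R) : R = ⊥ := by
  have hRM : R ≤ M := by
    by_contra h
    exact d.top (R ⊔ M) (lt_of_le_of_ne le_sup_right fun e => h (le_sup_left.trans e.ge))
      (isSolvable_sup hR d.solv)
  obtain ⟨g, hg⟩ := d.exists_notMem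
  rw [eq_bot_iff]
  intro r hr
  rw [mem_bot]
  obtain ⟨⟨x, hx⟩, hx1⟩ := Subgroup.ne_bot_iff_exists_ne_one.1 d.ne
  have hx1' : x ≠ 1 := fun e => hx1 (Subtype.ext e)
  have hkey : ∀ y ∈ R, y ∈ F → y = 1 := fun y hy hyF => by
    by_contra hy1
    exact hg (d.mem_of_conj hyF (hRM ((inferInstance : R.Normal).conj_mem y hy g)) hy1)
  have h1 : r * x * r⁻¹ * x⁻¹ = 1 := hkey _
    (by rw [show r * x * r⁻¹ * x⁻¹ = r * (x * r⁻¹ * x⁻¹) by group]
        exact mul_mem hr ((inferInstance : R.Normal).conj_mem _ (inv_mem hr) x))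
    (mul_mem (d.conj_mem (hRM hr) hx) (inv_mem hx))
  exact hkey r hr (d.mem_of_comm hx hx1' (mul_inv_eq_iff_eq_mul.1 (mul_inv_eq_one.1 h1)))

/-- There are two different involutions in a Sylow two-subgroup. -/
theorem exists_invol_ne (T : Sylow 2 G) {z : G} (hz : orderOf z = 2) :
    ∃ x ∈ (T : Subgroup G), orderOf x = 2 ∧ x ≠ z := by
  by_contra h
  push Not at h
  have hc := CfsgLib.Invol.zcentral_of_unique_invol T hz h
  have hO : Cfsg.pPrimeCore 2 G = ⊥ := by
    haveI := CfsgLib.Coprime.pPrimeCore_characteristic (G := G) 2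
    exact d.eq_bot_of_solvable _ (isSolvable_subgroup_of_odd
      (Nat.odd_iff.2 (Nat.two_dvd_ne_zero.1 (CfsgLib.Coprime.pPrimeCore_not_dvd Nat.prime_two))))
  have hcomm : ∀ g : G, z * g = g * z := fun g => by
    have h1 := hc g
    rw [hO, mem_bot, mul_inv_eq_one] at h1
    exact mul_inv_eq_iff_eq_mul.1 h1
  haveI : (zpowers z).Normal := ⟨fun x hx g => by
    obtain ⟨i, rfl⟩ := hx
    rw [((Commute.zpow_left (hcomm g) i : Commute (z ^ i) g)).eq.symm, mul_inv_cancel_right]
    exact ⟨i, rfl⟩⟩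
  haveI : IsMulCommutative (zpowers z) := inferInstance
  have h2 := d.eq_bot_of_solvable (zpowers z) inferInstance
  rw [zpowers_eq_bot] at h2
  exact CfsgLib.Invol.invol_ne_one hz h2

/-- If `M` contains a Sylow two-subgroup then so does the kernel. -/
theorem even_kernel (T : Sylow 2 G) (hT : (T : Subgroup G) ≤ M) (h2 : 2 ∣ Nat.card G) :
    2 ∣ Nat.card F := by
  haveI : Fact (Nat.Prime 2) := ⟨Nat.prime_two⟩
  by_contra hF
  obtain ⟨⟨z, hzT⟩, hz⟩ := exists_prime_orderOf_dvd_card' (G := (T : Subgroup G)) 2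
    (T.dvd_card_of_dvd_card h2)
  rw [Subgroup.orderOf_mk] at hz
  obtain ⟨x, hxT, hx, hxz⟩ := d.exists_invol_ne T hz
  have hnot : ∀ y ∈ (T : Subgroup G), y ∈ F → y = 1 := fun y hy hyF => by
    obtain ⟨j, hj⟩ := IsPGroup.iff_orderOf.1 T.2 ⟨y, hy⟩
    rw [Subgroup.orderOf_mk] at hj
    rcases Nat.eq_zero_or_pos j with rfl | hj0
    · rwa [pow_zero, orderOf_eq_one_iff] at hj
    · exfalso
      refine hF (dvd_trans ?_ (orderOf_dvd_natCard (⟨y, hyF⟩ : F)))
      rw [Subgroup.orderOf_mk, hj]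
      exact dvd_pow_self 2 hj0.ne'
  have hinv : ∀ i ∈ (T : Subgroup G), orderOf i = 2 → ∀ f ∈ F, i * f * i⁻¹ = f⁻¹ := by
    intro i hiT hi f hf
    let φ : F →* F := MonoidHom.mk' (fun u => ⟨i * u * i⁻¹, d.conj_mem (hT hiT) u.2⟩)
      fun u v => Subtype.ext (by simp [mul_assoc])
    have hfp : MonoidHom.FixedPointFree φ := fun u hu =>
      Subtype.ext (d.fpf i (hT hiT) (fun h => CfsgLib.Invol.invol_ne_one hi (hnot i hiT h)) u u.2
        (mul_inv_eq_iff_eq_mul.1 (congrArg Subtype.val hu)).symm)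
    have hii : Function.Involutive φ := fun u => Subtype.ext (by
      show i * (i * u * i⁻¹) * i⁻¹ = u
      rw [CfsgLib.Invol.invol_inv hi]
      calc i * (i * (u : G) * i) * i = (i * i) * u * (i * i) := by group
        _ = u := by rw [CfsgLib.Invol.invol_mul_self hi, one_mul, mul_one])
    exact congrArg Subtype.val (congrFun (hfp.coe_eq_inv_of_involutive hii) ⟨f, hf⟩)
  obtain ⟨⟨f, hf⟩, hf1⟩ := Subgroup.ne_bot_iff_exists_ne_one.1 d.ne
  have hc : (x * z) * f = f * (x * z) := by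
    have h1 := hinv z hzT hz f hf
    have h2 := hinv x hxT hx _ (inv_mem hf)
    rw [inv_inv] at h2
    calc x * z * f = x * (z * f * z⁻¹) * z := by group
      _ = x * f⁻¹ * x⁻¹ * (x * z) := by rw [h1]; group
      _ = _ := by rw [h2]
  have h1 := hnot _ (mul_mem hxT hzT) (d.mem_of_comm hf (fun e => hf1 (Subtype.ext e)) hc)
  exact hxz ((mul_eq_one_iff_eq_inv.1 h1).trans (CfsgLib.Invol.invol_inv hz))

end IsPart

end CfsgLib.FrobSystem
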