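import Cfsg.Agent.Lib.FrobSystem.Basic
import Cfsg.Agent.Lib.Invol.StronglyEmbeddedOrbits
import Cfsg.Agent.Lib.Coprime.SchurZassenhaus

/-!
# The kernel of even order gives a Zassenhaus group on the cosets

If `F` has even order then `M` is strongly embedded, the stabilizer of a second point of `G/M` is a
complement of `F` regular on the involutions of `F`, it fixes exactly two points, and `F` is regular on
the points different from `M`.
-/

set_option autoImplicit false
set_option linter.unusedSectionVars false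
set_option linter.style.haveILetI false

namespace CfsgLib.FrobSystem

open Subgroup MulAction

variable {G : Type*} [Group G] [Finite G]

/-- The number of involutions of `M`. -/
noncomputable def invCard (M : Subgroup G) : ℕ := Nat.card {t : G // orderOf t = 2 ∧ t ∈ M}

/-- The base point. -/
abbrev base (M : Subgroup G) : G ⧸ M := ((1 : G) : G ⧸ M)

theorem mk_eq_smul (M : Subgroup G) (g : G) : (g : G ⧸ M) = g • base M := by
  rw [MulAction.Quotient.smul_mk, smul_eq_mul, mul_one]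

theorem mem_stab_iff {M : Subgroup G} {g h : G} :
    h ∈ stabilizer G (g • base M) ↔ g⁻¹ * h * g ∈ M := by
  rw [mem_stabilizer_iff, ← eq_inv_smul_iff (g := h), eq_comm, inv_smul_eq_iff, ← mul_smul, smul_eq_iff_eq_inv_smul,
    ← mul_smul, eq_comm, CfsgLib.Invol.fixed_one_iff, mul_assoc]

/-- The standing hypothesis: a kernel of even order, with a second involution in `M`. -/
structure EvenPart (M F : Subgroup G) (T : Sylow 2 G) : Prop where
  part : IsPart M F
  le : (T : Subgroup G) ≤ M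
  even : 2 ∣ Nat.card G

namespace EvenPart

variable {M F : Subgroup G} {T : Sylow 2 G} (d : EvenPart M F T)
include d

theorem two_dvd : 2 ∣ Nat.card F := d.part.even_kernel T d.le d.even

theorem invol_mem {t : G} (ht : t ∈ M) (ho : orderOf t = 2) : t ∈ F :=
  d.part.mem_of_dvd ht (ho ▸ d.two_dvd)

theorem stronglyEmbedded : Cfsg.IsStronglyEmbedded M := by
  refine (CfsgLib.Invol.stronglyEmbedded_iff d.part.ne_top ?_).2 fun t ht hto g hg => ?_
  · exact even_iff_two_dvd.2 (d.two_dvd.trans (card_dvd_of_le d.part.le))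
  · exact d.part.mem_of_conj (d.invol_mem ht hto) hg (CfsgLib.Invol.invol_ne_one hto)

theorem exists_invol : ∃ z : G, orderOf z = 2 ∧ z ∈ M :=
  (CfsgLib.Invol.exists_invol_mem d.stronglyEmbedded.2.1).elim fun z hz => ⟨z, hz.2, hz.1⟩

theorem two_le_invCard : 2 ≤ invCard M := by
  haveI : Fact (Nat.Prime 2) := ⟨Nat.prime_two⟩
  obtain ⟨⟨z, hzT⟩, hz⟩ := exists_prime_orderOf_dvd_card' (G := (T : Subgroup G)) 2
    (T.dvd_card_of_dvd_card d.even)
  rw [Subgroup.orderOf_mk] at hz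
  obtain ⟨x, hxT, hx, hxz⟩ := d.part.exists_invol_ne T hz
  haveI : Nontrivial {t : G // orderOf t = 2 ∧ t ∈ M} :=
    ⟨⟨⟨x, hx, d.le hxT⟩, ⟨z, hz, d.le hzT⟩, fun e => hxz (congrArg Subtype.val e)⟩⟩
  exact Finite.one_lt_card

/-- Centralizers of involutions meet `M` in its kernel. -/
theorem mem_of_comm_invol {u c : G} (hu : orderOf u = 2) (hc : c ∈ M) (h : c * u = u * c) : c ∈ F := by
  obtain ⟨z, hz, hzM⟩ := d.exists_invol
  obtain ⟨g, rfl⟩ := isConj_iff.1 (CfsgLib.Invol.exists_conj_fixing d.stronglyEmbedded hz hu)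
  have h1 : g⁻¹ * c * g ∈ F := d.part.mem_of_comm (d.invol_mem hzM hz) (CfsgLib.Invol.invol_ne_one hz) (by
    calc g⁻¹ * c * g * z = g⁻¹ * (c * (g * z * g⁻¹)) * g := by group
      _ = g⁻¹ * (g * z * g⁻¹ * c) * g := by rw [h]
      _ = z * (g⁻¹ * c * g) := by group)
  refine d.part.mem_of_dvd hc ?_
  rw [show orderOf c = orderOf (g⁻¹ * c * g) by
    simpa using (MulEquiv.orderOf_eq (MulAut.conj g⁻¹) c).symm]
  rw [← Subgroup.orderOf_mk _ h1]
  exact orderOf_dvd_natCard _

/-- The stabilizer of a second point. -/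
theorem kernel_inf {y : G ⧸ M} (hy : y ≠ base M) {x : G} (hx : x ∈ F) (hxy : x • y = y) : x = 1 := by
  obtain ⟨g, rfl⟩ := QuotientGroup.mk_surjective y
  have hg : g ∉ M := fun h => hy (by rwa [QuotientGroup.eq, mul_one, inv_mem_iff])
  rw [mk_eq_smul, ← mem_stabilizer_iff, mem_stab_iff] at hxy
  have hgi : g⁻¹ ∉ M := fun h => hg (by simpa using inv_mem h)
  by_contra hx1
  exact hgi (d.part.mem_of_conj hx (by rwa [inv_inv]) hx1)

theorem stab_base : stabilizer G (base M) = M := by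
  ext h
  rw [mem_stabilizer_iff, CfsgLib.Invol.fixed_one_iff]

theorem exists_stab_conj {y : G ⧸ M} (hy : y ≠ base M) {z t : G} (hz : orderOf z = 2) (hzM : z ∈ M)
    (ht : orderOf t = 2) (htM : t ∈ M) : ∃ c ∈ M ⊓ stabilizer G y, c * z * c⁻¹ = t := by
  obtain ⟨g, rfl⟩ := QuotientGroup.mk_surjective y
  obtain ⟨c, ⟨hcM, hc⟩, e⟩ := CfsgLib.Invol.transitive_two_point d.stronglyEmbedded (u := g) hz hzM htM ht
  refine ⟨c, ⟨hcM, ?_⟩, e⟩
  obtain ⟨m, hm, rfl⟩ := hc
  show (MulAut.conj g) m ∈ stabilizer G (g : G ⧸ M)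
  rw [mk_eq_smul, mem_stab_iff, MulAut.conj_apply]
  rwa [show g⁻¹ * (g * m * g⁻¹) * g = m by group]

theorem card_stab {y : G ⧸ M} (hy : y ≠ base M) : Nat.card (M ⊓ stabilizer G y : Subgroup G) = invCard M := by
  obtain ⟨z, hz, hzM⟩ := d.exists_invol
  refine Nat.card_eq_of_bijective (fun c => (⟨(c : G) * z * (c : G)⁻¹, CfsgLib.Invol.invol_conj hz _,
    mul_mem (mul_mem c.2.1 hzM) (inv_mem c.2.1)⟩ : {t : G // orderOf t = 2 ∧ t ∈ M})) ⟨?_, ?_⟩
  · intro c c' e
    have e' : (c : G) * z * (c : G)⁻¹ = c' * z * (c' : G)⁻¹ := congrArg Subtype.val e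
    have hmem := mul_mem (inv_mem c'.2) c.2
    have h1 : (c' : G)⁻¹ * c ∈ F := d.part.mem_of_comm (d.invol_mem hzM hz) (CfsgLib.Invol.invol_ne_one hz) (by
      calc (c' : G)⁻¹ * c * z = (c' : G)⁻¹ * ((c : G) * z * (c : G)⁻¹) * c := by group
        _ = z * ((c' : G)⁻¹ * c) := by rw [e']; group)
    exact Subtype.ext (inv_mul_eq_one.1 (d.kernel_inf hy h1 hmem.2)).symm
  · rintro ⟨t, ht, htM⟩
    obtain ⟨c, hc, e⟩ := d.exists_stab_conj hy hz hzM ht htM
    exact ⟨⟨c, hc⟩, Subtype.ext e⟩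

theorem card_le : Nat.card M ≤ invCard M * Nat.card F := by
  classical
  obtain ⟨z, hz, hzM⟩ := d.exists_invol
  let π : M → {t : G // orderOf t = 2 ∧ t ∈ M} := fun m => ⟨(m : G) * z * (m : G)⁻¹,
    CfsgLib.Invol.invol_conj hz _, mul_mem (mul_mem m.2 hzM) (inv_mem m.2)⟩
  have hrep : ∀ m : M, π (Function.invFun π (π m)) = π m := fun m => Function.invFun_eq ⟨m, rfl⟩
  have hmem : ∀ m : M, ((Function.invFun π (π m) : M) : G)⁻¹ * m ∈ F := fun m => by
    have e := congrArg Subtype.val (hrep m)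
    refine d.part.mem_of_comm (d.invol_mem hzM hz) (CfsgLib.Invol.invol_ne_one hz) ?_
    set r : G := ((Function.invFun π (π m) : M) : G)
    change r * z * r⁻¹ = (m : G) * z * (m : G)⁻¹ at e
    calc r⁻¹ * m * z = r⁻¹ * ((m : G) * z * (m : G)⁻¹) * m := by group
      _ = z * (r⁻¹ * m) := by rw [← e]; group
  rw [show invCard M * Nat.card F = Nat.card ({t : G // orderOf t = 2 ∧ t ∈ M} × F) from (Nat.card_prod _ _).symm]
  refine Nat.card_le_card_of_injective (fun m => (π m, ⟨_, hmem m⟩)) fun m m' e => ?_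
  simp only [Prod.mk.injEq, Subtype.mk.injEq] at e
  rw [e.1] at e
  exact Subtype.ext (mul_left_cancel e.2)

/-- The stabilizer of a second point is a complement of the kernel. -/
theorem factor {y : G ⧸ M} (hy : y ≠ base M) {m : G} (hm : m ∈ M) :
    ∃ f ∈ F, ∃ c ∈ M ⊓ stabilizer G y, m = f * c := by
  let ψ : F × (M ⊓ stabilizer G y : Subgroup G) → M := fun q =>
    ⟨(q.1 : G) * q.2, mul_mem (d.part.le q.1.2) q.2.2.1⟩
  have hψ : Function.Injective ψ := by
    rintro ⟨f, c⟩ ⟨f', c'⟩ e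
    have e' : (f : G) * c = f' * c' := congrArg Subtype.val e
    have h : (f' : G)⁻¹ * f = c' * (c : G)⁻¹ := by
      rw [eq_mul_inv_iff_mul_eq, mul_assoc, e', inv_mul_cancel_left]
    have h1 := d.kernel_inf hy (mul_mem (inv_mem f'.2) f.2)
      (by rw [h]; exact (mul_mem c'.2 (inv_mem c.2)).2)
    rw [h, mul_inv_eq_one] at h1
    rw [inv_mul_eq_iff_eq_mul, h1, mul_inv_cancel, mul_one] at h
    exact Prod.ext (Subtype.ext h) (Subtype.ext h1.symm)
  obtain ⟨⟨f, c⟩, e⟩ := (hψ.bijective_of_nat_card_le (by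
    rw [Nat.card_prod, d.card_stab hy, mul_comm]; exact d.card_le)).2 ⟨m, hm⟩
  exact ⟨f, f.2, c, c.2, (congrArg Subtype.val e).symm⟩

theorem card_eq {y : G ⧸ M} (hy : y ≠ base M) :
    Nat.card M = Nat.card F * Nat.card (M ⊓ stabilizer G y : Subgroup G) := by
  refine le_antisymm ?_ ?_
  · rw [d.card_stab hy, mul_comm]; exact d.card_le
  · rw [← Nat.card_prod]
    refine Nat.card_le_card_of_injective (fun q => (⟨(q.1 : G) * q.2, mul_mem (d.part.le q.1.2) q.2.2.1⟩ : M)) ?_
    rintro ⟨f, c⟩ ⟨f', c'⟩ e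
    have e' : (f : G) * c = f' * c' := congrArg Subtype.val e
    have h : (f' : G)⁻¹ * f = c' * (c : G)⁻¹ := by
      rw [eq_mul_inv_iff_mul_eq, mul_assoc, e', inv_mul_cancel_left]
    have h1 := d.kernel_inf hy (mul_mem (inv_mem f'.2) f.2)
      (by rw [h]; exact (mul_mem c'.2 (inv_mem c.2)).2)
    rw [h, mul_inv_eq_one] at h1
    rw [inv_mul_eq_iff_eq_mul, h1, mul_inv_cancel, mul_one] at h
    exact Prod.ext (Subtype.ext h) (Subtype.ext h1.symm)

theorem swap_mem {y : G ⧸ M} {u : G} (hu : orderOf u = 2) (h : u • base M = y) {c : G}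
    (hc : c ∈ M ⊓ stabilizer G y) : u * c * u⁻¹ ∈ M ⊓ stabilizer G y := by
  have hy : u • y = base M := by rw [← h, CfsgLib.Invol.invol_smul_smul hu]
  refine ⟨CfsgLib.Invol.fixed_one_iff.1 ?_, ?_⟩
  · rw [CfsgLib.Invol.invol_inv hu, mul_smul, mul_smul]
    show u • c • u • base M = base M
    rw [h, show c • y = y from hc.2, hy]
  · show (u * c * u⁻¹) • y = y
    rw [CfsgLib.Invol.invol_inv hu, mul_smul, mul_smul, hy,
      show c • base M = base M from CfsgLib.Invol.fixed_one_iff.2 hc.1, h]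

theorem exists_swap {y : G ⧸ M} (hy : y ≠ base M) : ∃ u : G, orderOf u = 2 ∧ u • base M = y := by
  obtain ⟨⟨u, hu⟩⟩ : Nonempty {i : G // orderOf i = 2 ∧ i • base M = y} := (Nat.card_pos_iff.1 (by
    rw [CfsgLib.Invol.card_swap_eq d.stronglyEmbedded _ _ hy.symm]
    have := d.two_le_invCard
    unfold invCard at this
    omega)).1
  exact ⟨u, hu⟩

/-- An involution swapping the two points inverts their stabilizer. -/
theorem swap_inverts {y : G ⧸ M} (hy : y ≠ base M) {u : G} (hu : orderOf u = 2) (h : u • base M = y) {c : G}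
    (hc : c ∈ M ⊓ stabilizer G y) : u * c * u⁻¹ = c⁻¹ := by
  let φ : (M ⊓ stabilizer G y : Subgroup G) →* (M ⊓ stabilizer G y : Subgroup G) :=
    MonoidHom.mk' (fun x => ⟨u * x * u⁻¹, d.swap_mem hu h x.2⟩) fun a b => Subtype.ext (by simp [mul_assoc])
  have hfp : MonoidHom.FixedPointFree φ := fun x hx => by
    have hx' : u * (x : G) = x * u := mul_inv_eq_iff_eq_mul.1 (congrArg Subtype.val hx)
    exact Subtype.ext (d.kernel_inf hy (d.mem_of_comm_invol hu x.2.1 hx'.symm) x.2.2)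
  have hii : Function.Involutive φ := fun x => Subtype.ext (by
    show u * (u * x * u⁻¹) * u⁻¹ = x
    rw [CfsgLib.Invol.invol_inv hu]
    calc u * (u * (x : G) * u) * u = (u * u) * x * (u * u) := by group
      _ = x := by rw [CfsgLib.Invol.invol_mul_self hu, one_mul, mul_one])
  exact congrArg Subtype.val (congrFun (hfp.coe_eq_inv_of_involutive hii) ⟨c, hc⟩)

theorem stab_comm {y : G ⧸ M} (hy : y ≠ base M) {c c' : G} (hc : c ∈ M ⊓ stabilizer G y)
    (hc' : c' ∈ M ⊓ stabilizer G y) : c * c' = c' * c := by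
  obtain ⟨u, hu, h⟩ := d.exists_swap hy
  have h1 := d.swap_inverts hy hu h (mul_mem hc hc')
  rw [show u * (c * c') * u⁻¹ = (u * c * u⁻¹) * (u * c' * u⁻¹) by group, d.swap_inverts hy hu h hc,
    d.swap_inverts hy hu h hc', ← mul_inv_rev, inv_inj] at h1
  exact h1.symm

theorem exists_stab_ne_one {y : G ⧸ M} (hy : y ≠ base M) : ∃ c ∈ M ⊓ stabilizer G y, c ≠ 1 := by
  haveI : Nontrivial (M ⊓ stabilizer G y : Subgroup G) := Finite.one_lt_card_iff_nontrivial.1 (by
    rw [d.card_stab hy]; exact d.two_le_invCard)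
  obtain ⟨⟨c, hc⟩, hc1⟩ := exists_ne (1 : (M ⊓ stabilizer G y : Subgroup G))
  exact ⟨c, hc, fun e => hc1 (Subtype.ext e)⟩

/-- The stabilizer of two points fixes only these. -/
theorem fix_eq {y y' : G ⧸ M} (hy : y ≠ base M) (hy' : y' ≠ base M)
    (h : M ⊓ stabilizer G y ≤ stabilizer G y') : y' = y := by
  classical
  by_contra hne
  set D := M ⊓ stabilizer G y with hD
  obtain ⟨c0, hc0, hc01⟩ := d.exists_stab_ne_one hy
  let Φ : Set (G ⧸ M) := {w | D ≤ stabilizer G w}
  have hbase : base M ∈ Φ := show D ≤ stabilizer G (base M) by rw [d.stab_base]; exact inf_le_left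
  have hpair : ∀ w ∈ Φ, w ≠ base M → D = M ⊓ stabilizer G w := fun w hw hw0 =>
    eq_of_le_of_card_ge (le_inf inf_le_left hw) (by rw [d.card_stab hw0, d.card_stab hy])
  have hswap : ∀ w ∈ Φ, w ≠ base M → ∀ i : G, orderOf i = 2 → i • base M = w → ∀ c ∈ D, i * c * i⁻¹ = c⁻¹ :=
    fun w hw hw0 i hi hiw c hc => d.swap_inverts hw0 hi hiw (hpair w hw hw0 ▸ hc)
  set C := centralizer (D : Set G) with hC
  obtain ⟨u, hu, huy⟩ := d.exists_swap hy
  have huinv : ∀ c ∈ D, u * c * u⁻¹ = c⁻¹ := fun c hc => d.swap_inverts hy hu huy hc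
  have hCΦ : ∀ g ∈ C, g • base M ∈ Φ := fun g hg c hc => by
    rw [mem_stabilizer_iff, ← mul_smul, mem_centralizer_iff.1 hg c hc, mul_smul,
      show c • base M = base M from mem_stabilizer_iff.1 (hbase hc)]
  have hCM : ∀ g ∈ C, g ∈ M → g ∈ D := by
    intro g hg hgM
    obtain ⟨f, hf, c, hc, rfl⟩ := d.factor hy hgM
    have h1 := mem_centralizer_iff.1 hg c0 hc0
    have h2 : c0 * f = f * c0 := by
      apply mul_right_cancel (b := c)
      rw [mul_assoc, h1, mul_assoc f c, d.stab_comm hy hc hc0, mul_assoc]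
    by_cases hf1 : f = 1
    · rw [hf1, one_mul]; exact hc
    · exact absurd (d.kernel_inf hy (d.part.mem_of_comm hf hf1 h2) hc0.2) hc01
  set O : Set (G ⧸ M) := (fun g : G => g • base M) '' (C : Set G) with hO
  have hOsub : O ⊆ Φ := by
    rintro _ ⟨g, hg, rfl⟩
    exact hCΦ g hg
  have hCcard : Nat.card C ≤ Nat.card O * Nat.card D := by
    have hrep : ∀ w : O, ∃ g ∈ C, g • base M = w := fun w => by
      obtain ⟨g, hg, e⟩ := w.2
      exact ⟨g, hg, e⟩
    choose r hr hrw using hrep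
    have hmem : ∀ g : C, (r ⟨(g : G) • base M, g, g.2, rfl⟩)⁻¹ * g ∈ D := fun g =>
      hCM _ (mul_mem (inv_mem (hr _)) g.2) (CfsgLib.Invol.fixed_one_iff.1 (by
        rw [mul_smul, inv_smul_eq_iff]
        exact (hrw ⟨(g : G) • base M, g, g.2, rfl⟩).symm))
    rw [← Nat.card_prod]
    refine Nat.card_le_card_of_injective (fun g : C =>
      ((⟨(g : G) • base M, g, g.2, rfl⟩ : O), (⟨_, hmem g⟩ : D))) fun g g' e => ?_
    simp only [Prod.mk.injEq, Subtype.mk.injEq] at e
    have e1 : (⟨(g : G) • base M, g, g.2, rfl⟩ : O) = ⟨(g' : G) • base M, g', g'.2, rfl⟩ := e.1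
    rw [e1] at e
    exact Subtype.ext (mul_left_cancel e.2)
  -- the involutions swapping the base point with a point of `Φ`
  have hswaps : ∀ w : {w : G ⧸ M // w ∈ Φ ∧ w ≠ base M},
      Nat.card {i : G // orderOf i = 2 ∧ i • base M = w.1} = invCard M := fun w =>
    CfsgLib.Invol.card_swap_eq d.stronglyEmbedded _ _ w.2.2.symm
  have hle : Nat.card {w : G ⧸ M // w ∈ Φ ∧ w ≠ base M} * invCard M ≤ Nat.card C := by
    haveI := Fintype.ofFinite {w : G ⧸ M // w ∈ Φ ∧ w ≠ base M}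
    have hS : Nat.card (Σ w : {w : G ⧸ M // w ∈ Φ ∧ w ≠ base M}, {i : G // orderOf i = 2 ∧ i • base M = w.1}) =
        Nat.card {w : G ⧸ M // w ∈ Φ ∧ w ≠ base M} * invCard M := by
      rw [Nat.card_sigma, Finset.sum_congr rfl fun w _ => hswaps w, Finset.sum_const, Finset.card_univ,
        smul_eq_mul, Nat.card_eq_fintype_card]
    rw [← hS]
    refine Nat.card_le_card_of_injective (fun q => (⟨(q.2 : G) * u, ?_⟩ : C)) ?_
    · refine mem_centralizer_iff.2 fun c hc => ?_
      have h1 := hswap _ q.1.2.1 q.1.2.2 _ q.2.2.1 q.2.2.2 c⁻¹ (inv_mem hc)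
      rw [inv_inv] at h1
      have h2 := huinv c hc
      calc c * ((q.2 : G) * u) = (q.2 : G) * c⁻¹ * (q.2 : G)⁻¹ * (q.2 : G) * u := by rw [h1]; group
        _ = (q.2 : G) * (u * c * u⁻¹) * u := by rw [h2]; group
        _ = _ := by group
    · rintro ⟨⟨w, hw⟩, i, hi⟩ ⟨⟨w', hw'⟩, i', hi'⟩ e1
      obtain rfl : i = i' := mul_right_cancel (congrArg Subtype.val e1)
      obtain rfl : w = w' := hi.2.symm.trans hi'.2
      rfl
  -- the orbit of the centralizer and its translate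
  have hdisj : Disjoint O ((fun w => u • w) '' O) := by
    rw [Set.disjoint_left]
    rintro _ ⟨g, hg, rfl⟩ ⟨_, ⟨g', hg', rfl⟩, e⟩
    set q := g⁻¹ * u * g' with hq
    have hqM : q ∈ M := CfsgLib.Invol.fixed_one_iff.1 (by
      show (g⁻¹ * u * g') • base M = base M
      rw [mul_smul, mul_smul, inv_smul_eq_iff]; exact e)
    have hqinv : ∀ c ∈ D, q * c * q⁻¹ = c⁻¹ := fun c hc => by
      calc q * c * q⁻¹ = g⁻¹ * (u * (g' * c) * g'⁻¹ * u⁻¹) * g := by rw [hq]; group
        _ = g⁻¹ * (u * c * u⁻¹) * g := by rw [← mem_centralizer_iff.1 hg' c hc]; group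
        _ = g⁻¹ * (c⁻¹ * g) := by rw [huinv c hc]; group
        _ = c⁻¹ := by rw [mem_centralizer_iff.1 hg c⁻¹ (inv_mem hc)]; group
    obtain ⟨f, hf, c', hc', e'⟩ := d.factor hy hqM
    have h1 : f * c0 * f⁻¹ = c0⁻¹ := by
      calc f * c0 * f⁻¹ = q * c0 * q⁻¹ := by
            rw [e', show f * c' * c0 * (f * c')⁻¹ = f * (c' * c0 * c'⁻¹) * f⁻¹ by group,
              d.stab_comm hy hc' hc0, mul_inv_cancel_right]
        _ = c0⁻¹ := hqinv c0 hc0
    have h2 : c0⁻¹ * c0⁻¹ ∈ F := by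
      have h3 : f * c0 * f⁻¹ * c0⁻¹ ∈ F := by
        rw [show f * c0 * f⁻¹ * c0⁻¹ = f * (c0 * f⁻¹ * c0⁻¹) by group]
        exact mul_mem hf (d.part.conj_mem hc0.1 (inv_mem hf))
      rwa [h1] at h3
    have h3 := d.kernel_inf hy h2 (mul_mem (inv_mem hc0) (inv_mem hc0)).2
    have hodd : Odd (orderOf c0) := by
      rcases Nat.even_or_odd (orderOf c0) with ⟨j, hj⟩ | ho
      · exfalso
        have hp : orderOf (c0 ^ j) = 2 := by
          rw [orderOf_pow, hj, Nat.gcd_eq_right (Dvd.intro_left 2 (by ring)), ← two_mul, Nat.mul_div_cancel]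
          have := orderOf_pos c0
          omega
        exact CfsgLib.Invol.invol_ne_one hp (d.kernel_inf hy (d.invol_mem (pow_mem hc0.1 j) hp)
          (pow_mem hc0 j).2)
      · exact ho
    exact hc01 (CfsgLib.Invol.eq_one_of_odd_of_mul_self hodd (by
      rw [← inv_inj, mul_inv_rev, h3, inv_one]))
  have huΦ : (fun w => u • w) '' O ⊆ Φ := by
    rintro _ ⟨w, hw, rfl⟩ c hc
    rw [mem_stabilizer_iff, ← mul_smul,
      show c * u = u * c⁻¹ from (mul_inv_eq_iff_eq_mul.1 ((huinv c⁻¹ (inv_mem hc)).trans (inv_inv c))).symm,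
      mul_smul, show c⁻¹ • w = w from mem_stabilizer_iff.1 (hOsub hw (inv_mem hc))]
  have h2O : 2 * Nat.card O ≤ Nat.card Φ := by
    rw [Nat.card_coe_set_eq, Nat.card_coe_set_eq]
    calc 2 * O.ncard = (O ∪ (fun w => u • w) '' O).ncard := by
          rw [Set.ncard_union_eq hdisj, Set.ncard_image_of_injective _ (MulAction.injective u), two_mul]
      _ ≤ _ := Set.ncard_le_ncard (Set.union_subset hOsub huΦ)
  have hk : Nat.card {w : G ⧸ M // w ∈ Φ ∧ w ≠ base M} + 1 = Nat.card Φ := by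
    rw [Nat.card_coe_set_eq Φ, ← Set.ncard_sdiff_singleton_add_one hbase]
    congr 1
  have h3 : 3 ≤ Nat.card Φ := by
    rw [Nat.card_coe_set_eq]
    calc 3 = ({base M, y, y'} : Set (G ⧸ M)).ncard := by
          rw [Set.ncard_eq_three.2 ⟨base M, y, y', hy.symm, hy'.symm, Ne.symm hne, rfl⟩]
      _ ≤ _ := Set.ncard_le_ncard (by
          intro w hw
          rcases hw with rfl | rfl | rfl
          exacts [hbase, (inf_le_right : D ≤ stabilizer G _), h])
  have hDI : Nat.card D = invCard M := d.card_stab hy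
  have h4 : Nat.card {w : G ⧸ M // w ∈ Φ ∧ w ≠ base M} ≤ Nat.card O := by
    refine Nat.le_of_mul_le_mul_right (hle.trans ?_) (lt_of_lt_of_le two_pos d.two_le_invCard)
    rw [← hDI]; exact hCcard
  omega

/-- The kernel is transitive on the points different from the base. -/
theorem exists_move {y w : G ⧸ M} (hy : y ≠ base M) (hw : w ≠ base M) : ∃ f ∈ F, f • w = y := by
  set A := M ⊓ stabilizer G y
  set B := M ⊓ stabilizer G w
  have hcop : (Nat.card F).Coprime (Nat.card A) := by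
    have h1 := d.card_eq hy
    rw [← Nat.card_congr (subgroupOfEquivOfLe d.part.le).toEquiv, ← (F.subgroupOf M).card_mul_index,
      Nat.card_congr (subgroupOfEquivOfLe d.part.le).toEquiv] at h1
    rw [← Nat.eq_of_mul_eq_mul_left Nat.card_pos h1]
    exact d.part.coprime
  have hB : B ≤ A ⊔ F := fun m hm => by
    obtain ⟨f, hf, c, hc, rfl⟩ := d.factor hy hm.1
    exact mul_mem (mem_sup_right hf) (mem_sup_left hc)
  obtain ⟨x, hx, e⟩ := CfsgLib.Coprime.sz_conj_in (A := A) (B := B) (N := F)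
    (inf_le_left.trans d.part.norm) hcop hB (by rw [d.card_stab hy, d.card_stab hw])
    (Or.inl (CfsgLib.Coprime.isSolvable_of_le inf_le_left d.part.solv))
  refine ⟨x, hx, ?_⟩
  have hxne : x • w ≠ base M := fun e' => hw (smul_left_cancel x (e'.trans
    (CfsgLib.Invol.fixed_one_iff.2 (d.part.le hx) : x • base M = base M).symm))
  refine d.fix_eq hy hxne fun c hc => ?_
  have hc' : c ∈ CfsgLib.Coprime.conjBy x B := e.symm ▸ hc
  rw [CfsgLib.Coprime.mem_conjBy] at hc'
  rw [mem_stabilizer_iff, ← eq_inv_smul_iff (g := c), eq_comm, inv_smul_eq_iff, ← mul_smul,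
    smul_eq_iff_eq_inv_smul, ← mul_smul, eq_comm]
  rw [← mul_assoc]
  exact hc'.2

end EvenPart

end CfsgLib.FrobSystem
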